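import Cfsg.Agent.H97.Basic

/-! Linear maps of prime order prime to the characteristic over a finite field: pieces of dimension `ord_r q`. -/

namespace Cfsg.Agent.H97

open Module

variable {F V : Type*} [Field F] [Finite F] [AddCommGroup V] [Module F V] [FiniteDimensional F V]

/-- An invariant subspace with no nonzero fixed vector has `q ^ dim ≡ 1 (mod r)`. -/
theorem card_pow_modEq_of_fpf {r : ℕ} [Fact r.Prime] (x : End F V) (hx : x ^ r = 1)
    (hfix : ∀ v, x v = v → v = 0) : Nat.card F ^ finrank F V ≡ 1 [MOD r] := by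
  classical
  have : Finite V := Module.finite_of_finite F
  haveI := Fintype.ofFinite V
  let f : Function.End V := (x : V → V)
  have hf : f ^ r ^ 1 = 1 := by
    rw [pow_one]
    have : ∀ k : ℕ, f ^ k = ((x ^ k : End F V) : V → V) := by
      intro k
      induction k with
      | zero => rfl
      | succ k ih => rw [pow_succ, ih, pow_succ]; rfl
    rw [this, hx]; rfl
  have h := Equiv.Perm.card_fixedPoints_modEq hf
  have h1 : Fintype.card V = Nat.card F ^ finrank F V := by
    rw [← Nat.card_eq_fintype_card, Module.natCard_eq_pow_finrank (K := F) (V := V)]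
  have h2 : Fintype.card (Function.fixedPoints f) = 1 := by
    rw [Fintype.card_eq_one_iff]
    exact ⟨⟨0, show x 0 = 0 from map_zero x⟩, fun v => Subtype.ext (hfix v v.2)⟩
  rw [h1, h2] at h
  exact h

/-- The multiplicative order of `q` divides `n` when `q ^ n ≡ 1 (mod r)`. -/
theorem orderOf_dvd_of_modEq {q r n : ℕ} (h : q ^ n ≡ 1 [MOD r]) : orderOf (q : ZMod r) ∣ n := by
  apply orderOf_dvd_of_pow_eq_one
  rw [← Nat.cast_pow, ← Nat.cast_one]
  exact (ZMod.natCast_eq_natCast_iff _ _ _).2 h

/-- A simple space for an operator `g` with `g ^ (q ^ i) = g` has dimension at most `i`. -/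
theorem finrank_le_of_irreducible (g : End F V) {i : ℕ} (hi : 1 ≤ i) (hV : 0 < finrank F V)
    (hg : g ^ (Nat.card F ^ i) = g)
    (hirr : ∀ W : Submodule F V, W.map g ≤ W → W = ⊥ ∨ W = ⊤) : finrank F V ≤ i := by
  classical
  obtain ⟨v, hv⟩ : ∃ v : V, v ≠ 0 := Module.finrank_pos_iff_exists_ne_zero.1 hV
  haveI : Nontrivial V := ⟨⟨v, 0, hv⟩⟩
  set φ := minpoly F g with hφdef
  have hint : IsIntegral F g := Algebra.IsIntegral.isIntegral g
  have hφ0 : φ ≠ 0 := minpoly.ne_zero hint
  -- the minimal polynomial is irreducible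
  have hφ : Irreducible φ := by
    refine irreducible_iff.2 ⟨minpoly.not_isUnit F g, fun {a b} hab => ?_⟩
    have h0 : Polynomial.aeval g a * Polynomial.aeval g b = 0 := by
      rw [← map_mul, ← hab]; exact minpoly.aeval F g
    have hunit : ∀ {c d : Polynomial F}, φ = c * d → φ ∣ c → IsUnit d := by
      intro c d hcd hdvd
      obtain ⟨e, he⟩ := hdvd
      have h1 : φ * 1 = φ * (e * d) := by rw [mul_one, ← mul_assoc, ← he, ← hcd]
      exact IsUnit.of_mul_eq_one_right e (mul_left_cancel₀ hφ0 h1).symm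
    by_cases hb : Polynomial.aeval g b = 0
    · exact Or.inl (hunit (by rw [hab, mul_comm]) (minpoly.dvd F g hb))
    · refine Or.inr (hunit hab (minpoly.dvd F g (LinearMap.ext fun y => ?_)))
      have hrng : LinearMap.range (Polynomial.aeval g b) = ⊤ := by
        refine (hirr _ ?_).resolve_left fun h => hb (LinearMap.range_eq_bot.1 h)
        rintro _ ⟨_, ⟨y, rfl⟩, rfl⟩
        refine ⟨g y, ?_⟩
        have h3 : Polynomial.aeval g (b * Polynomial.X) = Polynomial.aeval g (Polynomial.X * b) := by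
          rw [mul_comm]
        rw [map_mul, map_mul, Polynomial.aeval_X] at h3
        exact LinearMap.congr_fun h3 y
      obtain ⟨y', rfl⟩ := (LinearMap.range_eq_top.1 hrng) y
      exact LinearMap.congr_fun h0 y'
  have hdeg : φ.natDegree ∣ i := by
    refine hφ.natDegree_dvd_of_dvd_X_pow_card_pow_sub_X (minpoly.dvd F g ?_)
    simp [hg]
  -- the space is spanned by the first `deg φ` powers applied to `v`
  let S : Submodule F V := Submodule.span F (Set.range fun k : Fin φ.natDegree => (g ^ (k : ℕ)) v)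
  have hmem : ∀ P : Polynomial F, Polynomial.aeval g P v ∈ S := by
    intro P
    have hmonic : φ.Monic := minpoly.monic hint
    have hlt : (P %ₘ φ).natDegree < φ.natDegree :=
      Polynomial.natDegree_modByMonic_lt P hmonic (fun h => hφ.not_isUnit (h ▸ isUnit_one))
    have h2 : Polynomial.aeval g P = Polynomial.aeval g (P %ₘ φ) := by
      conv_lhs => rw [← Polynomial.modByMonic_add_div P φ]
      rw [map_add, map_mul, minpoly.aeval, zero_mul, add_zero]
    rw [h2, Polynomial.aeval_eq_sum_range' hlt, LinearMap.sum_apply]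
    refine Submodule.sum_mem _ fun k hk => ?_
    rw [LinearMap.smul_apply]
    exact S.smul_mem _ (Submodule.subset_span ⟨⟨k, Finset.mem_range.1 hk⟩, rfl⟩)
  let L : Polynomial F →ₗ[F] V :=
    (LinearMap.applyₗ v).comp (Polynomial.aeval g).toLinearMap
  have htop : LinearMap.range L = ⊤ := by
    refine (hirr _ ?_).resolve_left fun h => hv ?_
    · rintro _ ⟨_, ⟨P, rfl⟩, rfl⟩
      exact ⟨Polynomial.X * P, by simp [L]⟩
    · have h1 : L 1 = 0 := LinearMap.congr_fun (LinearMap.range_eq_bot.1 h) 1
      simpa [L] using h1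
  have hS : (⊤ : Submodule F V) ≤ S := by
    rw [← htop]
    rintro _ ⟨P, rfl⟩
    exact hmem P
  calc finrank F V = finrank F (⊤ : Submodule F V) := finrank_top F V |>.symm
    _ ≤ finrank F S := Submodule.finrank_mono hS
    _ ≤ φ.natDegree := (finrank_range_le_card _).trans (by simp)
    _ ≤ i := Nat.le_of_dvd hi hdeg

variable {r : ℕ} [Fact r.Prime]

/-- `q` is invertible modulo a prime different from the characteristic. -/
theorem natCard_ne_zero_zmod (hr : (r : F) ≠ 0) : (Nat.card F : ZMod r) ≠ 0 := by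
  haveI := Fintype.ofFinite F
  obtain ⟨p, hp⟩ := CharP.exists F
  haveI := hp
  obtain ⟨e, hpp, he⟩ := FiniteField.card F p
  rw [Nat.card_eq_fintype_card, he, Ne, ZMod.natCast_eq_zero_iff]
  intro h
  have := (Nat.prime_dvd_prime_iff_eq Fact.out hpp).1 ((Fact.out : r.Prime).dvd_of_dvd_pow h)
  exact hr (by rw [this]; exact CharP.cast_eq_zero F p)

/-- `ord_r q` is positive. -/
theorem orderOf_pos_zmod (hr : (r : F) ≠ 0) : 0 < orderOf (Nat.card F : ZMod r) :=
  orderOf_pos_iff.2 (isOfFinOrder_iff_pow_eq_one.2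
    ⟨r - 1, Nat.sub_pos_of_lt (Fact.out : r.Prime).one_lt, ZMod.pow_card_sub_one_eq_one (natCard_ne_zero_zmod hr)⟩)

/-- An operator with `x ^ r = 1` is semisimple. -/
theorem isSemisimple_of_pow_prime (hr : (r : F) ≠ 0) (x : End F V) (hx : x ^ r = 1) : x.IsSemisimple :=
  Module.End.isSemisimple_of_squarefree_aeval_eq_zero
    (Polynomial.separable_X_pow_sub_C (1 : F) hr one_ne_zero).squarefree (by simp [hx])

/-- Complementary invariant subspace inside an invariant subspace. -/
theorem exists_inv_compl (hr : (r : F) ≠ 0) (x : End F V) (hx : x ^ r = 1) (P W : Submodule F V)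
    (hP : P.map x ≤ P) (hW : W.map x ≤ W) (hWP : W ≤ P) :
    ∃ Q : Submodule F V, Q.map x ≤ Q ∧ W ⊔ Q = P ∧ Disjoint W Q := by
  have hinv : ∀ {A : Submodule F V}, A.map x ≤ A ↔ A ∈ x.invtSubmodule := fun {A} =>
    Submodule.map_le_iff_le_comap.trans (Module.End.mem_invtSubmodule x).symm
  obtain ⟨Q, hQ, hc⟩ := Module.End.isSemisimple_iff.1 (isSemisimple_of_pow_prime hr x hx) W (hinv.1 hW)
  refine ⟨P ⊓ Q, map_inf_le hP (hinv.2 hQ), ?_, hc.disjoint.mono_right inf_le_right⟩
  rw [inf_comm, ← sup_inf_assoc_of_le _ hWP, hc.sup_eq_top, top_inf_eq]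

/-- The image of `x - 1`. -/
def movedSpace (x : End F V) : Submodule F V := LinearMap.range (x - 1)

/-- The fixed space of `x`. -/
def fixedSpace (x : End F V) : Submodule F V := LinearMap.ker (x - 1)

omit [Finite F] [FiniteDimensional F V] in
theorem mem_fixedSpace {x : End F V} {v : V} : v ∈ fixedSpace x ↔ x v = v := by
  simp [fixedSpace, sub_eq_zero]

omit [Finite F] [FiniteDimensional F V] in
theorem movedSpace_inv (x : End F V) : (movedSpace x).map x ≤ movedSpace x := by
  rintro _ ⟨_, ⟨y, rfl⟩, rfl⟩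
  exact ⟨x y, by simp⟩

omit [Finite F] [FiniteDimensional F V] in
theorem fixedSpace_inv (x : End F V) : (fixedSpace x).map x ≤ fixedSpace x :=
  map_le_of_fixed fun _ => mem_fixedSpace.1

omit [Finite F] [FiniteDimensional F V] in
/-- No nonzero fixed vector lies in the moved space. -/
theorem disjoint_fixed_moved (hr : (r : F) ≠ 0) (x : End F V) (hx : x ^ r = 1) :
    Disjoint (fixedSpace x) (movedSpace x) := by
  rw [Submodule.disjoint_def]
  rintro v hv ⟨y, hy⟩
  have h1 : ∀ k : ℕ, (x ^ k) v = v := by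
    intro k
    induction k with
    | zero => rfl
    | succ k ih => rw [pow_succ, Module.End.mul_apply, mem_fixedSpace.1 hv, ih]
  have h2 : ((∑ k ∈ Finset.range r, x ^ k) * (x - 1)) y = 0 := by rw [geom_sum_mul, hx, sub_self]; rfl
  rw [Module.End.mul_apply, hy, LinearMap.sum_apply, Finset.sum_congr rfl (fun k _ => h1 k),
    Finset.sum_const, Finset.card_range, ← Nat.cast_smul_eq_nsmul F] at h2
  exact (smul_eq_zero.1 h2).resolve_left hr

omit [Finite F] in
/-- The space is the sum of fixed and moved spaces. -/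
theorem isCompl_fixed_moved (hr : (r : F) ≠ 0) (x : End F V) (hx : x ^ r = 1) :
    IsCompl (fixedSpace x) (movedSpace x) := by
  refine ⟨disjoint_fixed_moved hr x hx, codisjoint_iff.2 ?_⟩
  refine Submodule.eq_top_of_finrank_eq ?_
  have h := Submodule.finrank_sup_add_finrank_inf_eq (fixedSpace x) (movedSpace x)
  rw [(disjoint_fixed_moved hr x hx).eq_bot, finrank_bot, add_zero] at h
  rw [h, add_comm]
  exact LinearMap.finrank_range_add_finrank_ker (x - 1)

/-- Minimal invariant subspaces of the moved space have dimension `ord_r q`. -/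
theorem finrank_simple_moved (hr : (r : F) ≠ 0) (x : End F V) (hx : x ^ r = 1) (W : Submodule F V)
    (hW : W.map x ≤ W) (hWM : W ≤ movedSpace x) (hW0 : W ≠ ⊥)
    (hirr : ∀ U : Submodule F V, U ≤ W → U.map x ≤ U → U = ⊥ ∨ U = W) :
    finrank F W = orderOf (Nat.card F : ZMod r) := by
  set i := orderOf (Nat.card F : ZMod r) with hi
  let g : End F W := x.restrict fun v hv => hW ⟨v, hv, rfl⟩
  have hgk : ∀ (k : ℕ) (v : W), ((g ^ k) v : V) = (x ^ k) v := by
    intro k
    induction k with
    | zero => intro v; rfl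
    | succ k ih => intro v; rw [pow_succ, pow_succ, Module.End.mul_apply, ih]; rfl
  have hgr : g ^ r = 1 := LinearMap.ext fun v => Subtype.ext (by rw [hgk, hx]; rfl)
  have hfix : ∀ v, g v = v → v = 0 := fun v hv => Subtype.ext
    ((Submodule.disjoint_def.1 (disjoint_fixed_moved hr x hx)) _
      (mem_fixedSpace.2 (congrArg Subtype.val hv)) (hWM v.2))
  have hdvd : i ∣ finrank F W := orderOf_dvd_of_modEq (card_pow_modEq_of_fpf g hgr hfix)
  have hpos : 0 < finrank F W := Nat.pos_of_ne_zero fun h => hW0 (Submodule.finrank_eq_zero.1 h)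
  refine le_antisymm (finrank_le_of_irreducible g (orderOf_pos_zmod hr) hpos ?_ fun U hU => ?_)
    (Nat.le_of_dvd hpos hdvd)
  · have hmod : Nat.card F ^ i % r = 1 := by
      have h1 : ((Nat.card F ^ i : ℕ) : ZMod r) = ((1 : ℕ) : ZMod r) := by
        rw [Nat.cast_pow, Nat.cast_one]; exact pow_orderOf_eq_one _
      rw [(ZMod.natCast_eq_natCast_iff' _ _ _).1 h1, Nat.mod_eq_of_lt (Fact.out : r.Prime).one_lt]
    rw [← Nat.div_add_mod (Nat.card F ^ i) r, hmod, pow_succ, pow_mul, hgr, one_pow, one_mul]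
  · rcases hirr (U.map W.subtype) (Submodule.map_subtype_le W U) (by
      rintro _ ⟨_, ⟨u, hu, rfl⟩, rfl⟩; exact ⟨g u, hU ⟨u, hu, rfl⟩, rfl⟩) with h | h
    · left; exact Submodule.map_injective_of_injective W.subtype_injective (by rw [h, Submodule.map_bot])
    · right; exact Submodule.map_injective_of_injective W.subtype_injective (by rw [h, Submodule.map_subtype_top])

/-- The moved space is spanned by simple pieces of dimension `ord_r q`. -/
theorem exists_pieces (hr : (r : F) ≠ 0) (x : End F V) (hx : x ^ r = 1) :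
    ∃ s : Finset (Submodule F V),
      (∀ W ∈ s, SimplePiece x (orderOf (Nat.card F : ZMod r)) W ∧ W ≤ movedSpace x) ∧
      s.sup id = movedSpace x := by
  classical
  haveI : Finite V := Module.finite_of_finite F
  haveI : Finite (Submodule F V) := Finite.of_injective _ SetLike.coe_injective
  haveI := Fintype.ofFinite (Submodule F V)
  set s := Finset.univ.filter fun W : Submodule F V =>
    SimplePiece x (orderOf (Nat.card F : ZMod r)) W ∧ W ≤ movedSpace x
  refine ⟨s, fun W hW => (Finset.mem_filter.1 hW).2, ?_⟩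
  have hle : s.sup id ≤ movedSpace x := Finset.sup_le fun W hW => (Finset.mem_filter.1 hW).2.2
  have hinv : (s.sup id).map x ≤ s.sup id :=
    Finset.sup_induction (p := fun W : Submodule F V => W.map x ≤ W) (by simp)
      (fun a ha b hb => map_sup_le ha hb) fun W hW => (Finset.mem_filter.1 hW).2.1.inv
  obtain ⟨Q, hQ, hsum, hd⟩ := exists_inv_compl hr x hx _ _ (movedSpace_inv x) hinv hle
  by_contra hne
  have hQ0 : Q ≠ ⊥ := fun h => hne (by rw [← hsum, h, sup_bot_eq])
  obtain ⟨W, hWmem, hmin⟩ := (Finset.univ.filter fun W : Submodule F V =>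
    W ≤ Q ∧ W.map x ≤ W ∧ W ≠ ⊥).exists_min_image (fun W => finrank F W)
      ⟨Q, by simp [hQ, hQ0]⟩
  obtain ⟨hW1, hW2, hW3⟩ := (Finset.mem_filter.1 hWmem).2
  have hirr : ∀ U : Submodule F V, U ≤ W → U.map x ≤ U → U = ⊥ ∨ U = W := fun U hU hUi => by
    by_contra h; push Not at h
    have := hmin U (by simp [hU.trans hW1, hUi, h.1])
    exact h.2 (Submodule.eq_of_le_of_finrank_le hU this)
  have hWM : W ≤ movedSpace x := hW1.trans (le_sup_right.trans hsum.le)
  have hmem : W ∈ s := Finset.mem_filter.2 ⟨Finset.mem_univ _,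
    ⟨hW2, finrank_simple_moved hr x hx W hW2 hWM hW3 hirr, hirr⟩, hWM⟩
  exact hW3 (le_bot_iff.1 (hd (Finset.le_sup (f := id) hmem) hW1))

/-- The dimension of an invariant subspace is that of its fixed part plus a multiple of `ord_r q`. -/
theorem finrank_inv_eq (hr : (r : F) ≠ 0) (x : End F V) (hx : x ^ r = 1) (W : Submodule F V)
    (hW : W.map x ≤ W) :
    ∃ l : ℕ, finrank F W = finrank F ↥(W ⊓ fixedSpace x) + l * orderOf (Nat.card F : ZMod r) := by
  obtain ⟨s, hs, hsup⟩ := exists_pieces hr x hx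
  exact finrank_inv_eq_of_pieces s id (fun U hU => (hs U hU).1) (fixedSpace_inv x) hW
    (by rw [hsup, (isCompl_fixed_moved hr x hx).sup_eq_top]; exact le_top)

/-- A subspace with no fixed vectors has dimension a multiple of `ord_r q`. -/
theorem dvd_finrank_fpf (hr : (r : F) ≠ 0) (x : End F V) (hx : x ^ r = 1) (W : Submodule F V)
    (hW : W.map x ≤ W) (hd : Disjoint W (fixedSpace x)) :
    orderOf (Nat.card F : ZMod r) ∣ finrank F W := by
  obtain ⟨l, hl⟩ := finrank_inv_eq hr x hx W hW
  rw [hd.eq_bot, finrank_bot, zero_add] at hl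
  exact ⟨l, by rw [hl, mul_comm]⟩

/-- Criterion for invariant subspaces of given dimension. -/
theorem exists_inv_finrank_iff_pow (hr : (r : F) ≠ 0) (x : End F V) (hx : x ^ r = 1) {m : ℕ}
    (hm : m < finrank F V) :
    (∃ W : Submodule F V, finrank F W = m ∧ W.map x ≤ W) ↔
      (m ≤ finrank F (fixedSpace x) ∨ (orderOf (Nat.card F : ZMod r) ≤ m ∧
        m % orderOf (Nat.card F : ZMod r) ≤ finrank F (fixedSpace x))) := by
  obtain ⟨s, hs, hsup⟩ := exists_pieces hr x hx
  exact exists_inv_finrank_iff (orderOf_pos_zmod hr) s id (fun U hU => (hs U hU).1)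
    (fun v => mem_fixedSpace.1) (by rw [hsup, (isCompl_fixed_moved hr x hx).sup_eq_top]) hm

/-- Invariant subspaces of every admissible dimension between two invariant subspaces. -/
theorem exists_inv_between (hr : (r : F) ≠ 0) (x : End F V) (hx : x ^ r = 1) (N : Submodule F V)
    (hN : N.map x ≤ N) (l : ℕ)
    (hl : finrank F N + l * orderOf (Nat.card F : ZMod r) ≤ finrank F ↥(N ⊔ movedSpace x)) :
    ∃ W : Submodule F V, N ≤ W ∧ W ≤ N ⊔ movedSpace x ∧ W.map x ≤ W ∧
      finrank F W = finrank F N + l * orderOf (Nat.card F : ZMod r) := by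
  obtain ⟨s, hs, hsup⟩ := exists_pieces hr x hx
  obtain ⟨-, L, hL, hall⟩ := exists_inv_of_pieces s id (fun U hU => (hs U hU).1) hN
  rw [hsup] at hL hall
  exact hall l (Nat.le_of_mul_le_mul_right (by omega) (orderOf_pos_zmod hr))

end Cfsg.Agent.H97
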