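import Mathlib

/-! Invariant subspaces of a linear map: chains through irreducible pieces of constant dimension. -/

namespace Cfsg.Agent.H97

open Module

variable {F V : Type*} [Field F] [AddCommGroup V] [Module F V]

/-- Sup of invariant subspaces is invariant. -/
theorem map_sup_le {f : V →ₗ[F] V} {A B : Submodule F V} (hA : A.map f ≤ A) (hB : B.map f ≤ B) :
    (A ⊔ B).map f ≤ A ⊔ B := by
  rw [Submodule.map_sup]; exact sup_le_sup hA hB

/-- Inf of invariant subspaces is invariant. -/
theorem map_inf_le {f : V →ₗ[F] V} {A B : Submodule F V} (hA : A.map f ≤ A) (hB : B.map f ≤ B) :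
    (A ⊓ B).map f ≤ A ⊓ B :=
  le_inf ((Submodule.map_mono inf_le_left).trans hA) ((Submodule.map_mono inf_le_right).trans hB)

/-- A subspace on which `f` is the identity is invariant. -/
theorem map_le_of_fixed {f : V →ₗ[F] V} {A : Submodule F V} (h : ∀ v ∈ A, f v = v) :
    A.map f ≤ A := by
  rintro _ ⟨v, hv, rfl⟩; rw [h v hv]; exact hv

/-- `U` is an `f`-invariant subspace with no proper nonzero invariant subspace, of dimension `a`. -/
structure SimplePiece (f : V →ₗ[F] V) (a : ℕ) (U : Submodule F V) : Prop where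
  inv : U.map f ≤ U
  dim : finrank F U = a
  irred : ∀ W : Submodule F V, W ≤ U → W.map f ≤ W → W = ⊥ ∨ W = U

variable [FiniteDimensional F V]

/-- Adding a simple piece to an invariant subspace raises the dimension by `0` or `a`. -/
theorem SimplePiece.finrank_sup {f : V →ₗ[F] V} {a : ℕ} {U N : Submodule F V}
    (hU : SimplePiece f a U) (hN : N.map f ≤ N) :
    N ⊔ U = N ∨ finrank F ↥(N ⊔ U) = finrank F N + a := by
  rcases hU.irred (N ⊓ U) inf_le_right (map_inf_le hN hU.inv) with h | h
  · right
    have := Submodule.finrank_sup_add_finrank_inf_eq N U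
    rw [h, finrank_bot, hU.dim] at this
    simpa using this
  · left; exact sup_eq_left.2 (inf_eq_right.1 h)

/-- From an invariant `N`, all dimensions `dim N + l a` up to the span of the pieces are attained. -/
theorem exists_inv_of_pieces {f : V →ₗ[F] V} {a : ℕ} {ι : Type*} (s : Finset ι)
    (U : ι → Submodule F V) (hU : ∀ i ∈ s, SimplePiece f a (U i)) {N : Submodule F V}
    (hN : N.map f ≤ N) :
    (N ⊔ s.sup U).map f ≤ N ⊔ s.sup U ∧
    ∃ L : ℕ, finrank F ↥(N ⊔ s.sup U) = finrank F N + L * a ∧
      ∀ l ≤ L, ∃ W : Submodule F V, N ≤ W ∧ W ≤ N ⊔ s.sup U ∧ W.map f ≤ W ∧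
        finrank F W = finrank F N + l * a := by
  classical
  induction s using Finset.induction with
  | empty =>
    rw [Finset.sup_empty, sup_bot_eq]
    refine ⟨hN, 0, by simp, fun l hl => ⟨N, le_rfl, le_rfl, hN, ?_⟩⟩
    simp [Nat.le_zero.1 hl]
  | insert j t hj ih =>
    obtain ⟨hinv, L, hL, hall⟩ := ih fun i hi => hU i (Finset.mem_insert_of_mem hi)
    have hj' := hU j (Finset.mem_insert_self _ _)
    have heq : N ⊔ (insert j t).sup U = (N ⊔ t.sup U) ⊔ U j := by
      rw [Finset.sup_insert, sup_comm (U j), sup_assoc]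
    rw [heq]
    refine ⟨map_sup_le hinv hj'.inv, ?_⟩
    rcases hj'.finrank_sup hinv with h | h
    · rw [h]; exact ⟨L, hL, hall⟩
    · refine ⟨L + 1, by rw [h, hL]; ring, fun l hl => ?_⟩
      rcases Nat.lt_or_eq_of_le hl with hl | rfl
      · obtain ⟨W, h1, h2, h3, h4⟩ := hall l (Nat.lt_succ_iff.1 hl)
        exact ⟨W, h1, h2.trans le_sup_left, h3, h4⟩
      · exact ⟨_, le_sup_left.trans le_sup_left, le_rfl, map_sup_le hinv hj'.inv,
          by rw [h, hL]; ring⟩

/-- An invariant subspace meets an invariant `N` (with pieces spanning a complement) in codimension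
divisible by `a`. -/
theorem finrank_inv_eq_of_pieces {f : V →ₗ[F] V} {a : ℕ} {ι : Type*} (s : Finset ι)
    (U : ι → Submodule F V) (hU : ∀ i ∈ s, SimplePiece f a (U i)) {N W : Submodule F V}
    (hN : N.map f ≤ N) (hW : W.map f ≤ W) (hle : W ≤ N ⊔ s.sup U) :
    ∃ l : ℕ, finrank F W = finrank F ↥(W ⊓ N) + l * a := by
  classical
  obtain ⟨hinv, L, hL, -⟩ := exists_inv_of_pieces s U hU hN
  obtain ⟨-, L', hL', -⟩ := exists_inv_of_pieces s U hU (map_sup_le hN hW)
  have hh : (N ⊔ W) ⊔ s.sup U = N ⊔ s.sup U :=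
    le_antisymm (sup_le (sup_le le_sup_left hle) le_sup_right) (sup_le_sup_right le_sup_left _)
  rw [hh, hL] at hL'
  have h1 := Submodule.finrank_sup_add_finrank_inf_eq N W
  rw [inf_comm] at h1
  have h2 : finrank F N ≤ finrank F ↥(N ⊔ W) := Submodule.finrank_mono le_sup_left
  refine ⟨L - L', ?_⟩
  rw [tsub_mul]
  omega

/-- Arithmetical criterion for an invariant subspace of given dimension, when the space is the fixed
space plus simple pieces of dimension `a`. -/
theorem exists_inv_finrank_iff {f : V →ₗ[F] V} {a : ℕ} (ha : 1 ≤ a) {ι : Type*} (s : Finset ι)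
    (U : ι → Submodule F V) (hU : ∀ i ∈ s, SimplePiece f a (U i)) {E : Submodule F V}
    (hE : ∀ v ∈ E, f v = v) (hsp : E ⊔ s.sup U = ⊤) {m : ℕ} (hm : m < finrank F V) :
    (∃ W : Submodule F V, finrank F W = m ∧ W.map f ≤ W) ↔
      (m ≤ finrank F E ∨ (a ≤ m ∧ m % a ≤ finrank F E)) := by
  constructor
  · rintro ⟨W, hWm, hW⟩
    obtain ⟨l, hl⟩ := finrank_inv_eq_of_pieces s U hU (map_le_of_fixed hE) hW (hsp ▸ le_top)
    have hle : finrank F ↥(W ⊓ E) ≤ finrank F E := Submodule.finrank_mono inf_le_right
    rw [hWm] at hl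
    rcases Nat.eq_zero_or_pos l with rfl | hl0
    · left; omega
    · right
      have : a ≤ l * a := Nat.le_mul_of_pos_left a hl0
      refine ⟨by omega, ?_⟩
      rw [hl, Nat.add_mul_mod_self_right]
      exact (Nat.mod_le _ _).trans hle
  · intro h
    -- choose the largest admissible dimension inside `E`
    obtain ⟨e, l, he, hml, hbig⟩ : ∃ e l : ℕ, e ≤ finrank F E ∧ m = e + l * a ∧
        (0 < l → finrank F E < e + a) := by
      rcases h with h | ⟨h1, h2⟩
      · exact ⟨m, 0, h, by simp, by simp⟩
      · rcases le_or_gt m (finrank F E) with hc | hc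
        · exact ⟨m, 0, hc, by simp, by simp⟩
        · set c := finrank F E
          obtain ⟨j, hj1, hj2⟩ : ∃ j, j * a ≤ c - m % a ∧ c - m % a < j * a + a := by
            refine ⟨(c - m % a) / a, Nat.div_mul_le_self _ _, ?_⟩
            have h3 := Nat.lt_mul_div_succ (c - m % a) (show 0 < a from ha)
            rw [mul_add, mul_one, mul_comm a] at h3
            exact h3
          have hdm := Nat.div_add_mod m a
          have hcomm : a * (m / a) = (m / a) * a := mul_comm _ _
          have hjm : j ≤ m / a := by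
            by_contra hlt
            have : (m / a + 1) * a ≤ j * a := Nat.mul_le_mul_right a (Nat.succ_le_of_lt (not_le.1 hlt))
            rw [add_mul, one_mul] at this
            have := Nat.mod_lt m ha
            omega
          refine ⟨m % a + j * a, m / a - j, by omega, ?_, fun _ => by omega⟩
          rw [tsub_mul]
          have := Nat.mul_le_mul_right a hjm
          omega
    obtain ⟨E', hE', hdimE'⟩ : ∃ E' : Submodule F V, E' ≤ E ∧ finrank F E' = e := by
      obtain ⟨g, hg⟩ := exists_linearIndependent_of_le_finrank (R := F) (M := E) he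
      have hgi : LinearIndependent F (fun i => (g i : V)) := hg.map' E.subtype (Submodule.ker_subtype E)
      refine ⟨Submodule.span F (Set.range fun i => (g i : V)),
        Submodule.span_le.2 (by rintro _ ⟨i, rfl⟩; exact (g i).2), ?_⟩
      rw [finrank_span_eq_card hgi, Fintype.card_fin]
    obtain ⟨-, L, hL, hall⟩ :=
      exists_inv_of_pieces s U hU (map_le_of_fixed fun v hv => hE v (hE' hv))
    have hlL : l ≤ L := by
      by_contra hlt
      have hcard : finrank F V ≤ finrank F E + finrank F ↥(E' ⊔ s.sup U) - e := by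
        have h1 := Submodule.finrank_sup_add_finrank_inf_eq E (E' ⊔ s.sup U)
        have h2 : E ⊔ (E' ⊔ s.sup U) = ⊤ := by
          rw [eq_top_iff, ← hsp]; exact sup_le_sup_left le_sup_right E
        have h3 : finrank F E' ≤ finrank F ↥(E ⊓ (E' ⊔ s.sup U)) :=
          Submodule.finrank_mono (le_inf hE' le_sup_left)
        rw [h2, finrank_top] at h1
        omega
      have hb := hbig (by omega)
      have hLm : (L + 1) * a ≤ l * a := Nat.mul_le_mul_right a (not_le.1 hlt)
      rw [add_mul, one_mul] at hLm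
      rw [hL, hdimE'] at hcard
      omega
    obtain ⟨W, -, -, hW, hWd⟩ := hall l hlL
    exact ⟨W, by omega, hW⟩

end Cfsg.Agent.H97
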